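import Cfsg.Prelude.Def_LocalEven
import Cfsg.Agent.OddCyclic.FFRed
import Cfsg.Agent.Lib.CoprimeHyperplane
import Cfsg.Agent.SporadicB.DihedralLift
import Cfsg.Agent.Lib.Involves

/-!
# S₃-free groups: elementary abelian 2-subgroups acting on odd order subgroups

`ρ : G →* MulAut V` faithful, `V` an elementary abelian 2-group, no involution of `G` inverts an element of order 3.
If the elementary abelian 2-subgroup `A` acts nontrivially on an odd order subgroup `R` then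
`|C_V(B) : C_V(A)| ≥ 4` for some hyperplane `B` of `A`.
-/

set_option autoImplicit false
open Cfsg

namespace Cfsg.Agent.H210.Off

open Subgroup
open Cfsg.Agent.OddCyclic.T1Module Cfsg.Agent.OddCyclic.FFBasic Cfsg.Agent.OddCyclic.FFRed

variable {G : Type*} [Group G]

/-- no involution of `G` inverts an element of order 3 -/
def NoInv3 (G : Type*) [Group G] : Prop :=
  ∀ a y : G, a * a = 1 → orderOf y = 3 → a * y * a⁻¹ ≠ y⁻¹

theorem involves_perm_three {a y : G} (ha : a * a = 1) (hy : orderOf y = 3) (h : a * y * a⁻¹ = y⁻¹) :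
    Cfsg.Involves (Equiv.Perm (Fin 3)) G := by
  have hy1 : y ≠ 1 := by rintro rfl; simp at hy
  have ha1 : a ≠ 1 := by
    rintro rfl
    have h2 : y * y = 1 := by
      have : y = y⁻¹ := by simpa using h
      calc y * y = y * y⁻¹ := by rw [← this]
        _ = 1 := mul_inv_cancel y
    have := orderOf_dvd_of_pow_eq_one (show y ^ 2 = 1 by rw [sq]; exact h2)
    rw [hy] at this
    norm_num at this
  have hinv : a⁻¹ = a := inv_eq_of_mul_eq_one_left ha
  have hay : (a * y) * (a * y) = 1 := by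
    rw [hinv] at h
    calc (a * y) * (a * y) = (a * y * a) * y := by simp [mul_assoc]
      _ = y⁻¹ * y := by rw [h]
      _ = 1 := inv_mul_cancel y
  have hay1 : a * y ≠ 1 := by
    intro h1
    have h2 : y = a := by
      calc y = a⁻¹ * (a * y) := by simp
        _ = a := by rw [h1, mul_one, hinv]
    have := orderOf_dvd_of_pow_eq_one (show y ^ 2 = 1 by rw [sq, h2]; exact ha)
    rw [hy] at this
    norm_num at this
  have h2a : orderOf a = 2 := orderOf_eq_prime (by rw [sq]; exact ha) ha1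
  have h2b : orderOf (a * y) = 2 := orderOf_eq_prime (by rw [sq]; exact hay) hay1
  obtain ⟨e⟩ := Cfsg.Agent.SporadicB.DihedralLift.closure_pair_equiv_dihedral' (n := 3) h2a h2b (by
    rw [← mul_assoc, ha, one_mul]; exact hy)
  obtain ⟨e'⟩ := Cfsg.Agent.SporadicB.DihedralLift.dihedral_three_equiv_perm
  have h3 : Cfsg.Agent.Lib.Involves.Involves G (Equiv.Perm (Fin 3)) :=
    Cfsg.Agent.Lib.Involves.of_injective
      ((closure ({a, a * y} : Set G)).subtype.comp (e.trans e').symm.toMonoidHom)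
      ((Subgroup.subtype_injective _).comp (e.trans e').symm.injective)
  exact Cfsg.Agent.Lib.Involves.involves_iff.1 h3

theorem noInv3_of (h : ¬ Cfsg.Involves (Equiv.Perm (Fin 3)) G) : NoInv3 G :=
  fun _ _ ha hy hay => h (involves_perm_three ha hy hay)

/-- `r⁻¹ r^a` has order prime to 3 -/
theorem NoInv3.not_dvd (h : NoInv3 G) {a r : G} (ha : a * a = 1) : ¬ 3 ∣ orderOf (r⁻¹ * (a * r * a⁻¹)) ∨
    orderOf (r⁻¹ * (a * r * a⁻¹)) = 0 := by
  by_cases h0 : orderOf (r⁻¹ * (a * r * a⁻¹)) = 0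
  · exact Or.inr h0
  left
  intro h3
  have hinv : a⁻¹ = a := inv_eq_of_mul_eq_one_left ha
  have h1 : a * (r⁻¹ * (a * r * a⁻¹)) * a⁻¹ = (r⁻¹ * (a * r * a⁻¹))⁻¹ := by
    have : a * (r⁻¹ * (a * r * a⁻¹)) * a⁻¹ = (a * r * a⁻¹)⁻¹ * ((a * a) * r * (a * a)⁻¹) := by
      simp [mul_assoc]
    rw [this, ha]
    simp [mul_assoc]
  refine h a ((r⁻¹ * (a * r * a⁻¹)) ^ (orderOf (r⁻¹ * (a * r * a⁻¹)) / 3)) ha
    (orderOf_pow_orderOf_div h0 h3) ?_
  rw [← conj_pow, h1, inv_pow]

theorem NoInv3.not_dvd' [Finite G] (h : NoInv3 G) {a r : G} (ha : a * a = 1) :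
    ¬ 3 ∣ orderOf (r⁻¹ * (a * r * a⁻¹)) := by
  rcases h.not_dvd (r := r) ha with h1 | h1
  · exact h1
  · exact absurd h1 (orderOf_pos _).ne'

theorem inverted_aux {a r : G} (ha : a * a = 1) :
    a * (r⁻¹ * (a * r * a⁻¹)) * a⁻¹ = (r⁻¹ * (a * r * a⁻¹))⁻¹ := by
  have : a * (r⁻¹ * (a * r * a⁻¹)) * a⁻¹ = (a * r * a⁻¹)⁻¹ * ((a * a) * r * (a * a)⁻¹) := by
    simp [mul_assoc]
  rw [this, ha]
  simp [mul_assoc]

variable {V : Type*} [CommGroup V]

/-- the basic bound: an involution inverting an element of odd order (prime to 3) acting nontrivially -/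
theorem four_le_index [Finite V] (ρ : G →* MulAut V) (hV : ∀ v : V, v * v = 1)
    {a y : G} {r : ℕ} (hr : r.Prime) (hr2 : r ≠ 2) (hr3 : r ≠ 3) (hy : orderOf y = r)
    (h : a * y * a⁻¹ = y⁻¹) (hne : ∃ v, ρ y v ≠ v) : 4 ≤ (fx ρ a).index := by
  have h1 := half' ρ (hy ▸ hr.odd_of_ne_two hr2) h
  obtain ⟨d, hd0, hd, hrd⟩ := prim (ρ := ρ) hV hr hr2 hy hne
  obtain ⟨e, he⟩ := index_pow hV (fx ρ a)
  have hr5 : 5 ≤ r := by
    have h2 := hr.two_le
    have h4 : r ≠ 4 := by rintro rfl; norm_num at hr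
    omega
  have h2d : 0 < 2 ^ d - 1 := by
    have : 2 ^ 1 ≤ 2 ^ d := Nat.pow_le_pow_right (by norm_num) hd0
    omega
  have h2 := Nat.le_of_dvd h2d hrd
  rw [hd, he] at h1
  rw [he]
  by_contra hcon
  have he1 : e ≤ 1 := by
    by_contra h3
    have : 2 ^ 2 ≤ 2 ^ e := Nat.pow_le_pow_right (by norm_num) (by omega)
    omega
  have h3 : (2 ^ e) ^ 2 ≤ 4 := by
    interval_cases e <;> norm_num
  omega

/-- the action on the fixed points of `B` -/
theorem CS_stable' {ρ : G →* MulAut V} {B : Subgroup G} :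
    ∀ n ∈ centralizer (B : Set G), ∀ w ∈ CS ρ B, ρ n w ∈ CS ρ B :=
  fun _ hn _ hw => CS_stable (Subgroup.centralizer_le_normalizer _ hn) hw

theorem isPGroup_of_sq {A : Subgroup G} (hA : ∀ a ∈ A, a * a = 1) : IsPGroup 2 A := by
  intro a
  refine ⟨1, ?_⟩
  apply Subtype.ext
  rw [pow_one, sq]
  exact hA a a.2

theorem isElementaryAbelian_of_sq {A : Subgroup G} (hA : ∀ a ∈ A, a * a = 1) :
    Cfsg.IsElementaryAbelian 2 A :=
  ⟨⟨⟨fun a b => Subtype.ext (comm_of_sq hA a.2 b.2)⟩⟩, fun a ha => by rw [sq]; exact hA a ha⟩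

/-- the inequality on `C_V(B)` for an element `y` of `C(B)` inverted by `a ∈ A` -/
theorem four_le_relIndex [Finite V] {ρ : G →* MulAut V} (hρ : Function.Injective ρ)
    (hV : ∀ v : V, v * v = 1) {A B : Subgroup G} (hA : ∀ a ∈ A, a * a = 1) (hBA : B ≤ A)
    {a y : G} (ha : a ∈ A) {r : ℕ} (hr : r.Prime) (hr2 : r ≠ 2) (hr3 : r ≠ 3) (hy : orderOf y = r)
    (hyB : y ∈ centralizer (B : Set G)) (h : a * y * a⁻¹ = y⁻¹) :
    4 ≤ (CS ρ A).relIndex (CS ρ B) := by
  have haB : a ∈ centralizer (B : Set G) := by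
    rw [mem_centralizer_iff]
    intro b hb
    exact comm_of_sq hA (hBA hb) ha
  have hy1 : y ≠ 1 := by
    rintro rfl
    rw [orderOf_one] at hy
    exact hr.one_lt.ne hy
  have hyodd : Odd (orderOf y) := hy ▸ hr.odd_of_ne_two hr2
  obtain ⟨v, hv, hyv⟩ := axb (ρ := ρ) hV (isPGroup_of_sq (fun b hb => hA b (hBA hb))) hyodd
    (fun b hb => mem_centralizer_iff.1 hyB b hb) (by
      by_contra hcon
      push Not at hcon
      apply hy1
      apply hρ
      rw [map_one]
      ext v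
      exact hcon v)
  let ρ' := res ρ (centralizer (B : Set G)) (CS ρ B) CS_stable'
  have h1 := four_le_index ρ' (fun v => Subtype.ext (hV v)) hr hr2 hr3
    (a := ⟨a, haB⟩) (y := ⟨y, hyB⟩) (by rw [← hy]; exact Subgroup.orderOf_mk y hyB)
    (Subtype.ext h) ⟨⟨v, hv⟩, fun h2 => hyv (by
      have := congrArg Subtype.val h2
      rwa [res_apply] at this)⟩
  rw [fx_res] at h1
  refine h1.trans ?_
  refine Subgroup.relIndex_le_of_le_left (L := CS ρ B) ?_ ?_
  · intro w hw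
    exact hw a ha
  · exact Subgroup.index_ne_zero_of_finite

/-- **Odd order step** -/
theorem step_odd [Finite G] [Finite V] {ρ : G →* MulAut V} (hρ : Function.Injective ρ)
    (hV : ∀ v : V, v * v = 1) (h3 : NoInv3 G) {A R : Subgroup G} (hA : ∀ a ∈ A, a * a = 1)
    (hR : Odd (Nat.card R)) (hAR : A ≤ normalizer (R : Set G)) (hne : ¬ A ≤ centralizer (R : Set G)) :
    ∃ B ≤ A, B.relIndex A = 2 ∧ 4 ≤ (CS ρ A).relIndex (CS ρ B) := by
  have hA1 : A ≠ ⊥ := by
    rintro rfl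
    exact hne bot_le
  have hsup := Cfsg.Agent.Lib.CoprimeHyperplane.iSup_centralizer_hyperplane (p := 2)
    (isElementaryAbelian_of_sq hA) hA1 (fun h => (Nat.not_even_iff_odd.2 hR) (even_iff_two_dvd.2 h)) hAR
  obtain ⟨B, hB⟩ : ∃ B : {B : Subgroup G // B ≤ A ∧ B.relIndex A = 2},
      ¬ R ⊓ centralizer ((B : Subgroup G) : Set G) ≤ centralizer (A : Set G) := by
    by_contra hcon
    push Not at hcon
    apply hne
    rw [Subgroup.le_centralizer_iff, ← hsup]
    exact iSup_le hcon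
  obtain ⟨B, hBA, hBi⟩ := B
  obtain ⟨y, hy, hyA⟩ := SetLike.not_le_iff_exists.1 hB
  rw [mem_centralizer_iff] at hyA
  push Not at hyA
  obtain ⟨a, ha, hay⟩ := hyA
  have haa := hA a ha
  have haB : a ∈ centralizer (B : Set G) := by
    rw [mem_centralizer_iff]
    intro b hb
    exact comm_of_sq hA (hBA hb) ha
  obtain ⟨x, hx⟩ : ∃ x, x = y⁻¹ * (a * y * a⁻¹) := ⟨_, rfl⟩
  have hx1 : x ≠ 1 := by
    intro h
    apply hay
    rw [h] at hx
    have h2 : y = a * y * a⁻¹ := by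
      have := congrArg (y * ·) hx
      simpa using this
    have h3 := congrArg (· * a) h2
    simpa [mul_assoc] using h3.symm
  have hxR : x ∈ R := by
    rw [hx]
    exact mul_mem (inv_mem hy.1) ((mem_normalizer_iff.1 (hAR ha) y).1 hy.1)
  have hyB : y ∈ centralizer (B : Set G) := hy.2
  have hxB : x ∈ centralizer (B : Set G) := by
    rw [hx]
    exact mul_mem (inv_mem hyB) (mul_mem (mul_mem haB hyB) (inv_mem haB))
  have hxinv : a * x * a⁻¹ = x⁻¹ := by rw [hx]; exact inverted_aux haa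
  have hxo : Odd (orderOf x) := by
    have := orderOf_dvd_natCard (⟨x, hxR⟩ : R)
    rw [Subgroup.orderOf_mk] at this
    exact hR.of_dvd_nat this
  have hxne : orderOf x ≠ 1 := fun h => hx1 (orderOf_eq_one_iff.1 h)
  obtain ⟨r, hr, hrx⟩ := Nat.exists_prime_and_dvd hxne
  have hr2 : r ≠ 2 := by
    rintro rfl
    exact (Nat.not_even_iff_odd.2 hxo) (even_iff_two_dvd.2 hrx)
  have hr3 : r ≠ 3 := by
    rintro rfl
    rw [hx] at hrx
    exact h3.not_dvd' haa hrx
  refine ⟨B, hBA, hBi, ?_⟩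
  refine four_le_relIndex hρ hV hA hBA ha hr hr2 hr3
    (y := x ^ (orderOf x / r)) (orderOf_pow_orderOf_div (orderOf_pos x).ne' hrx) (pow_mem hxB _) ?_
  rw [← conj_pow, hxinv, inv_pow]

end Cfsg.Agent.H210.Off
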