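import Cfsg.Agent.GH.L2Aut
import Cfsg.Agent.Lib.PSL2Circle

/-!
# Involutory automorphisms of `PSL(2, 3^(2n+1))`: matrix computations
-/

set_option autoImplicit false

namespace Cfsg.Agent.H210.Off

open Matrix Cfsg.Agent.Lib.SL2Mat Cfsg.Agent.Lib.PSL2Circle Cfsg.Agent.Lib.PSL2Inv
open Cfsg.Agent.GH.L2Aut

variable {F : Type*} [Field F]

/-- if `g² = e²`, `g` not scalar, there is a nilpotent `N ≠ 0` with `g N = - N g` -/
theorem exists_nilpotent (g : Matrix (Fin 2) (Fin 2) F) (e : F)
    (hg : g * g = (e * e) • (1 : Matrix (Fin 2) (Fin 2) F))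
    (h1 : g - e • 1 ≠ 0) (h2 : g + e • 1 ≠ 0) :
    ∃ N : Matrix (Fin 2) (Fin 2) F, N ≠ 0 ∧ N * N = 0 ∧ g * N = - (N * g) ∧ N.trace = 0 ∧ N.det = 0 := by
  obtain ⟨i, j, hij⟩ : ∃ i j, (g - e • 1) i j ≠ 0 := by
    by_contra hcon
    push Not at hcon
    exact h1 (by ext i j; exact hcon i j)
  obtain ⟨k, l, hkl⟩ : ∃ i j, (g + e • 1) i j ≠ 0 := by
    by_contra hcon
    push Not at hcon
    exact h2 (by ext i j; exact hcon i j)
  have hz : (g + e • 1) * (g - e • 1) = 0 := by
    rw [Matrix.add_mul, Matrix.mul_sub, Matrix.mul_sub, hg]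
    simp [smul_smul]
  have hz' : (g - e • 1) * (g + e • 1) = 0 := by
    rw [Matrix.sub_mul, Matrix.mul_add, Matrix.mul_add, hg]
    simp [smul_smul]
    abel
  have hgl : g * (g - e • 1) = - (e • (g - e • 1)) := by
    rw [Matrix.mul_sub, hg, smul_sub]
    simp [smul_smul]
  have hgr : (g + e • 1) * g = e • (g + e • 1) := by
    rw [Matrix.add_mul, hg, smul_add]
    simp [smul_smul]
    abel
  refine ⟨(g - e • 1) * Matrix.single j k 1 * (g + e • 1), ?_, ?_, ?_, ?_, ?_⟩
  · intro h
    have h3 := congrFun (congrFun h i) l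
    rw [Matrix.mul_assoc, Matrix.mul_apply] at h3
    have h4 : ∀ m, (Matrix.single j k (1 : F) * (g + e • 1)) m l = if m = j then (g + e • 1) k l else 0 := by
      intro m
      rw [Matrix.mul_apply]
      simp only [Matrix.single_apply]
      by_cases hm : m = j
      · subst hm
        simp
      · rw [if_neg hm]
        apply Finset.sum_eq_zero
        intro x _
        rw [if_neg (by rintro ⟨h5, -⟩; exact hm h5.symm), zero_mul]
    simp only [h4] at h3
    simp at h3
    rcases h3 with h3 | h3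
    · exact hij (by simpa using h3)
    · exact hkl (by simpa using h3)
  · calc (g - e • 1) * Matrix.single j k 1 * (g + e • 1) * ((g - e • 1) * Matrix.single j k 1 * (g + e • 1))
        = (g - e • 1) * Matrix.single j k 1 * ((g + e • 1) * (g - e • 1)) * (Matrix.single j k 1 * (g + e • 1)) := by
          simp only [Matrix.mul_assoc]
      _ = 0 := by rw [hz]; simp
  · calc g * ((g - e • 1) * Matrix.single j k 1 * (g + e • 1))
        = (g * (g - e • 1)) * Matrix.single j k 1 * (g + e • 1) := by simp only [Matrix.mul_assoc]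
      _ = - ((g - e • 1) * Matrix.single j k 1 * (e • (g + e • 1))) := by
          rw [hgl]
          simp only [Matrix.neg_mul, Matrix.smul_mul, Matrix.mul_smul]
      _ = - ((g - e • 1) * Matrix.single j k 1 * (g + e • 1) * g) := by
          rw [← hgr]; simp only [Matrix.mul_assoc]
  · rw [Matrix.trace_mul_comm, ← Matrix.mul_assoc, hz]
    simp
  · rw [Matrix.det_mul, Matrix.det_mul]
    have h5 : (g - e • 1).det * (g + e • 1).det = 0 := by
      rw [← Matrix.det_mul, hz']
      simp
    calc (g - e • 1).det * (Matrix.single j k (1 : F)).det * (g + e • 1).det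
        = (Matrix.single j k (1 : F)).det * ((g - e • 1).det * (g + e • 1).det) := by ring
      _ = 0 := by rw [h5, mul_zero]

/-- an anticommuting partner of an element `s` with `s² = -1` -/
theorem exists_anti [Finite F] (h2 : (2 : F) ≠ 0) (hsq : ∀ x : F, x * x ≠ -1)
    (s : SpecialLinearGroup (Fin 2) F) (hs : ent s 1 1 = - ent s 0 0) :
    ∃ s' : SpecialLinearGroup (Fin 2) F, ent s' 1 1 = - ent s' 0 0 ∧ s * s' = - (s' * s) := by
  classical
  have := Fintype.ofFinite F
  obtain ⟨a, ha⟩ : ∃ a, a = ent s 0 0 := ⟨_, rfl⟩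
  obtain ⟨b, hb⟩ : ∃ b, b = ent s 0 1 := ⟨_, rfl⟩
  obtain ⟨c, hc⟩ : ∃ c, c = ent s 1 0 := ⟨_, rfl⟩
  have hdet := det_eq s
  rw [hs, ← ha, ← hb, ← hc] at hdet
  have hb0 : b ≠ 0 := by
    intro h
    rw [h] at hdet
    apply hsq a
    linear_combination -hdet
  obtain ⟨u, v, huv⟩ : ∃ u v : F, u * u + v * v = -1 := by
    have hodd : Fintype.card F % 2 = 1 := by
      have h3 : ringChar F ≠ 2 := by
        intro h
        have h4 : ((2 : ℕ) : F) = 0 := by
          rw [← h]; exact ringChar.Nat.cast_ringChar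
        exact h2 (by exact_mod_cast h4)
      exact FiniteField.odd_card_of_char_ne_two h3
    obtain ⟨u, v, huv⟩ := FiniteField.exists_root_sum_quadratic
      (f := (Polynomial.X ^ 2 : Polynomial F)) (g := (Polynomial.X ^ 2 + 1 : Polynomial F))
      (by simp) (by compute_degree!) hodd
    refine ⟨u, v, ?_⟩
    simp at huv
    linear_combination huv
  refine ⟨mk (u + a * v) (b * v) (-(2 * a * u + (a * a - 1) * v) / b) (-(u + a * v)) ?_, ?_, ?_⟩
  · field_simp
    linear_combination (-1 : F) * huv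
  · rfl
  · have hn : ∀ (x : SpecialLinearGroup (Fin 2) F) (i j : Fin 2), ent (-x) i j = - ent x i j :=
      fun _ _ _ => rfl
    have hz : b * (-(2 * a * u + (a * a - 1) * v) / b) = -(2 * a * u + (a * a - 1) * v) := by
      field_simp
    refine ext_ent ?_ ?_ ?_ ?_
    all_goals
      rw [hn, ent_mul, ent_mul]
      simp only [mk_00, mk_01, mk_10, mk_11, hs, ← ha, ← hb, ← hc]
    · linear_combination hz - v * hdet
    · ring
    · ring
    · linear_combination hz - v * hdet

end Cfsg.Agent.H210.Off
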