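import Cfsg.Agent.H210.Off.PslTorus

/-!
# Involutory automorphisms of `PSL(2, 3^(2n+1))` are inner or invert an element of order three
-/

set_option autoImplicit false

namespace Cfsg.Agent.H210.Off

open Matrix Cfsg.Agent.Lib.SL2Mat Cfsg.Agent.Lib.PSL2Circle Cfsg.Agent.Lib.PSL2Inv
open Cfsg.Agent.GH.L2Aut

variable {F : Type*} [Field F]

local notation "SL2" => Matrix.SpecialLinearGroup (Fin 2) F

theorem three_pow_ne_sq (n m : ℕ) : 3 ^ (2 * n + 1) ≠ m ^ 2 := by
  intro h
  have h1 := three_pow_mod n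
  rw [h] at h1
  have h2 : m % 8 < 8 := Nat.mod_lt _ (by norm_num)
  rw [Nat.pow_mod] at h1
  interval_cases (m % 8) <;> norm_num at h1

/-- an automorphism of a field of order `3^(2n+1)` with square `1` is trivial -/
theorem field_aut_eq_one [Fintype F] {n : ℕ} (hF : Fintype.card F = 3 ^ (2 * n + 1)) {σ : F ≃+* F}
    (hσ : σ * σ = 1) : σ = 1 := by
  obtain ⟨K, c, -, hc, h1⟩ := exists_fixed_field σ (r := 2) (n := 1) Nat.prime_two (by
    rw [pow_one, sq]; exact hσ)
  apply h1
  by_contra hc0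
  obtain ⟨d, rfl⟩ := Nat.exists_eq_succ_of_ne_zero hc0
  rw [Nat.card_eq_fintype_card, hF] at hc
  apply three_pow_ne_sq n (Nat.card K ^ 2 ^ d)
  rw [hc, ← pow_mul, ← pow_succ]

theorem isSquare_neg_of_not [Fintype F] (h4 : Fintype.card F % 4 = 3) {d : F} (hd0 : d ≠ 0)
    (hd : ¬ IsSquare d) : IsSquare (-d) := by
  classical
  have h2 : ringChar F ≠ 2 := by
    intro h
    have := FiniteField.even_card_of_char_two (F := F) h
    omega
  have h1 : ¬ IsSquare (-1 : F) := by
    rw [FiniteField.isSquare_neg_one_iff]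
    omega
  rw [← quadraticChar_one_iff_isSquare (neg_ne_zero.2 hd0)]
  have e1 : quadraticChar F (-1) = -1 := (quadraticChar_neg_one_iff_not_isSquare).2 h1
  have e2 : quadraticChar F d = -1 := (quadraticChar_neg_one_iff_not_isSquare).2 hd
  rw [← neg_one_mul, map_mul, e1, e2]
  norm_num

theorem mul_self_eq (g : Matrix (Fin 2) (Fin 2) F) :
    g * g = g.trace • g - g.det • (1 : Matrix (Fin 2) (Fin 2) F) := by
  rw [Matrix.det_fin_two, Matrix.trace_fin_two]
  ext i j
  fin_cases i <;> fin_cases j <;> simp [Matrix.mul_apply, Fin.sum_univ_two] <;> ring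

theorem inner_or_three {K : Type*} [Group K] (R : GH.L2Aut.Rep F K) [Fintype F] {n : ℕ}
    (hF : Fintype.card F = 3 ^ (2 * n + 1)) {α : MulAut K} (hα : α * α = 1) :
    α ∈ (MulAut.conj : K →* MulAut K).range ∨ ∃ x : K, orderOf x = 3 ∧ α x = x⁻¹ := by
  have hmod := three_pow_mod n
  have hfld : R.fld α = 1 := field_aut_eq_one hF (by rw [← map_mul, hα, map_one])
  obtain ⟨g, rfl⟩ := R.mem_PGL.1 (R.mem_PGL_iff_fld.2 hfld)
  by_cases hd : IsSquare g.1.det
  · exact Or.inl (R.gl_mem_inn.2 hd)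
  right
  have hd0 : g.1.det ≠ 0 := by
    intro h
    apply hd
    rw [h]
    exact ⟨0, by simp⟩
  obtain ⟨e, he⟩ := isSquare_neg_of_not (by rw [hF]; omega) hd0 hd
  obtain ⟨c, hc⟩ := R.gl_eq_one_iff.1 (show R.gl (g * g) = 1 by rw [map_mul, hα])
  have hc' : g.1 * g.1 = c • (1 : Matrix (Fin 2) (Fin 2) F) := hc
  have hsc : ∀ l : F, g.1 ≠ l • (1 : Matrix (Fin 2) (Fin 2) F) := by
    intro l hl
    apply hd
    rw [hl, Matrix.det_smul, Matrix.det_one, mul_one]
    exact ⟨l, by simp [sq]⟩
  have htr : g.1.trace = 0 := by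
    by_contra h
    have h1 := mul_self_eq g.1
    rw [hc'] at h1
    apply hsc ((g.1.trace)⁻¹ * (c + g.1.det))
    have h2 : g.1.trace • g.1 = (c + g.1.det) • (1 : Matrix (Fin 2) (Fin 2) F) := by
      rw [add_smul, h1]
      abel
    calc g.1 = (g.1.trace)⁻¹ • (g.1.trace • g.1) := by rw [smul_smul, inv_mul_cancel₀ h, one_smul]
      _ = _ := by rw [h2, smul_smul]
  have hgg : g.1 * g.1 = (e * e) • (1 : Matrix (Fin 2) (Fin 2) F) := by
    rw [mul_self_eq, htr, ← he]
    simp
  obtain ⟨N, hN0, hNN, hgN, hNt, hNd⟩ := exists_nilpotent g.1 e hgg (by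
    intro h
    exact hsc e (sub_eq_zero.1 h)) (by
    intro h
    apply hsc (-e)
    rw [neg_smul]
    exact eq_neg_of_add_eq_zero_left h)
  -- the unipotent element
  have hdet : ((1 : Matrix (Fin 2) (Fin 2) F) + N).det = 1 := by
    have h1 : N.trace = N 0 0 + N 1 1 := Matrix.trace_fin_two N
    have h2 : N.det = N 0 0 * N 1 1 - N 0 1 * N 1 0 := Matrix.det_fin_two N
    rw [Matrix.det_fin_two]
    simp
    rw [hNt] at h1
    rw [hNd] at h2
    linear_combination -h1 - h2
  let x : SL2 := ⟨1 + N, hdet⟩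
  have h3 : (3 : F) = 0 := by
    have h1 : ((3 ^ (2 * n + 1) : ℕ) : F) = 0 := by
      rw [← hF, Nat.cast_card_eq_zero]
    push_cast at h1
    exact pow_eq_zero_iff (by omega) |>.1 h1
  have hxinv : x⁻¹.1 = 1 - N := by
    have h1 : x * ⟨1 - N, by
        have h1 : N.trace = N 0 0 + N 1 1 := Matrix.trace_fin_two N
        have h2 : N.det = N 0 0 * N 1 1 - N 0 1 * N 1 0 := Matrix.det_fin_two N
        rw [Matrix.det_fin_two]
        simp
        rw [hNt] at h1
        rw [hNd] at h2
        linear_combination h1 - h2⟩ = 1 := by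
      apply Subtype.ext
      change (1 + N) * (1 - N) = 1
      have h2 : (1 + N) * (1 - N) = 1 - N * N := by noncomm_ring
      rw [h2, hNN, sub_zero]
    rw [inv_eq_of_mul_eq_one_right h1]
  have hx3 : x ^ 3 = 1 := by
    apply Subtype.ext
    change (1 + N) ^ 3 = 1
    have h2 : (1 + N) ^ 3 = 1 + N + N + N + (N * N + N * N + N * N + N * N * N) := by noncomm_ring
    rw [h2, hNN]
    simp only [Matrix.zero_mul, add_zero]
    have : (1 : Matrix (Fin 2) (Fin 2) F) + N + N + N = 1 + (3 : F) • N := by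
      have : (3 : F) • N = N + N + N := by
        rw [show (3 : F) = 1 + 1 + 1 by norm_num, add_smul, add_smul, one_smul]
      rw [this]; abel
    rw [this, h3]
    simp
  have hπ : orderOf (R.π x) = 3 := by
    have : Fact (Nat.Prime 3) := ⟨Nat.prime_three⟩
    apply orderOf_eq_prime
    · rw [← map_pow, hx3, map_one]
    · intro h
      rw [R.ker] at h
      rcases h with h | h
      · apply hN0
        have h1 : (1 : Matrix (Fin 2) (Fin 2) F) + N = 1 := congrArg Subtype.val h
        simpa using h1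
      · have h1 : (1 : Matrix (Fin 2) (Fin 2) F) + N = -1 := congrArg Subtype.val h
        have h2 : N = (-2 : F) • 1 := by
          calc N = (1 + N) - 1 := by abel
            _ = _ := by
              rw [h1, show (-2 : F) = -1 + -1 by norm_num, add_smul]
              simp
              abel
        rw [h2] at hNN
        have h4 := congrFun (congrFun hNN 0) 0
        simp at h4
        exact R.two h4
  refine ⟨R.π x, hπ, ?_⟩
  rw [R.gl_apply, ← map_inv]
  congr 1
  apply Subtype.ext
  rw [conjGL_val, hxinv]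
  change g.1 * (1 + N) * g⁻¹.1 = 1 - N
  have h5 : g.1 * (1 + N) = (1 - N) * g.1 := by
    rw [Matrix.mul_add, hgN, Matrix.sub_mul]
    simp [sub_eq_add_neg]
  rw [h5, Matrix.mul_assoc, ← Units.val_mul, mul_inv_cancel, Units.val_one, Matrix.mul_one]

end Cfsg.Agent.H210.Off
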