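import Cfsg.Agent.H210.Off.Base
import Cfsg.Agent.OddCyclic.ClaimC.Sz
import Cfsg.Agent.OddCyclic.CaseESz

/-!
# The step for a normalized Suzuki subgroup
-/

set_option autoImplicit false
open Cfsg

namespace Cfsg.Agent.H210.Off

open Subgroup
open Cfsg.Agent.OddCyclic.T1Module Cfsg.Agent.OddCyclic.FFBasic Cfsg.Agent.OddCyclic.FFRed

/-- a group of inner automorphisms lifts -/
theorem exists_lift_conj {A K : Type*} [Group A] [Group K] (hz : center K = ⊥) (φ : A →* MulAut K)
    (h : ∀ a, φ a ∈ (MulAut.conj : K →* MulAut K).range) :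
    ∃ κ : A →* K, ∀ a, MulAut.conj (κ a) = φ a := by
  have hinj : Function.Injective (MulAut.conj : K →* MulAut K) := by
    rw [← MonoidHom.ker_eq_bot_iff, eq_bot_iff]
    intro k hk
    rw [MonoidHom.mem_ker] at hk
    rw [← hz, mem_center_iff]
    intro g
    have h1 : k * g * k⁻¹ = g := by
      have := congrArg (fun e => e g) hk
      simpa using this
    have h2 := congrArg (· * k) h1
    simpa [mul_assoc] using h2.symm
  let e := MonoidHom.ofInjective hinj
  refine ⟨e.symm.toMonoidHom.comp (φ.codRestrict _ h), fun a => ?_⟩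
  have h1 : e (e.symm (φ.codRestrict _ h a)) = φ.codRestrict _ h a := e.apply_symm_apply _
  have h2 := congrArg Subtype.val h1
  exact h2

variable {G : Type*} [Group G]

/-- conjugation of `A` on the normalized subgroup `D` -/
noncomputable def actHom {A D : Subgroup G} (hAD : A ≤ normalizer (D : Set G)) : A →* MulAut D :=
  (D.normalizerMonoidHom).comp (inclusion hAD)

theorem actHom_apply {A D : Subgroup G} (hAD : A ≤ normalizer (D : Set G)) (a : A) (d : D) :
    ((actHom hAD a d : D) : G) = a * d * (a : G)⁻¹ := rfl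

theorem actHom_ker {A D : Subgroup G} (hAD : A ≤ normalizer (D : Set G)) :
    (actHom hAD).ker = (A ⊓ centralizer (D : Set G)).subgroupOf A := by
  ext a
  rw [MonoidHom.mem_ker, mem_subgroupOf, mem_inf]
  constructor
  · intro h
    refine ⟨a.2, ?_⟩
    rw [mem_centralizer_iff]
    intro d hd
    have h1 : (a : G) * d * (a : G)⁻¹ = d := by
      have := congrArg (fun e : MulAut D => ((e ⟨d, hd⟩ : D) : G)) h
      exact this
    have h2 := congrArg (· * (a : G)) h1
    simpa [mul_assoc] using h2.symm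
  · rintro ⟨-, h⟩
    ext d
    rw [actHom_apply]
    have := mem_centralizer_iff.1 h d d.2
    rw [← this]
    simp

theorem step_sz [Finite G] {V : Type*} [CommGroup V] [Finite V] {ρ : G →* MulAut V}
    (hρ : Function.Injective ρ) (hV : ∀ v : V, v * v = 1) {A D : Subgroup G}
    (hA : ∀ a ∈ A, a * a = 1) (hD : Cfsg.Lie.IsoSuzuki D) (hAD : A ≤ normalizer (D : Set G)) :
    ((A ⊓ centralizer (D : Set G)).relIndex A) ^ 2 ≤
      (CS ρ A).relIndex (CS ρ (A ⊓ centralizer (D : Set G))) := by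
  obtain ⟨B, hB⟩ : ∃ B, B = A ⊓ centralizer (D : Set G) := ⟨_, rfl⟩
  rw [← hB]
  have hBA : B ≤ A := hB ▸ inf_le_left
  have hBD : B ≤ centralizer (D : Set G) := hB ▸ inf_le_right
  by_cases hBA' : B = A
  · rw [hBA', relIndex_self, relIndex_self]
    norm_num
  have hAN : A ≤ centralizer (B : Set G) := by
    intro a ha
    rw [mem_centralizer_iff]
    intro b hb
    exact comm_of_sq hA (hBA hb) ha
  have hDN : D ≤ centralizer (B : Set G) := by
    rw [Subgroup.le_centralizer_iff]
    exact hBD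
  -- the inner automorphisms
  have hz : center D = ⊥ := by
    have h1 := Cfsg.Agent.OddCyclic.CaseESz.inf_centralizer hD
    rw [eq_bot_iff]
    intro z hz
    rw [mem_center_iff] at hz
    have h2 : (z : G) ∈ D ⊓ centralizer (D : Set G) := by
      refine ⟨z.2, ?_⟩
      show (z : G) ∈ centralizer (D : Set G)
      rw [mem_centralizer_iff]
      intro d hd
      exact congrArg Subtype.val (hz ⟨d, hd⟩)
    rw [h1, mem_bot] at h2
    rw [mem_bot]
    exact Subtype.ext h2
  obtain ⟨κ, hκ⟩ := exists_lift_conj hz (actHom hAD) (by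
    intro a
    have h1 := Cfsg.Agent.OddCyclic.CaseESz.inner hD (hAD a.2) ⟨1, by rw [pow_one, sq]; exact hA a a.2⟩
    rw [Cfsg.Agent.OddCyclic.CaseESz.mem_sup_iff] at h1
    obtain ⟨k, hk, c, hc, hac⟩ := h1
    refine ⟨⟨k, hk⟩, ?_⟩
    ext d
    show k * (d : G) * k⁻¹ = a * d * (a : G)⁻¹
    rw [hac]
    have := mem_centralizer_iff.1 hc d d.2
    calc k * (d : G) * k⁻¹ = k * (d * c * c⁻¹) * k⁻¹ := by simp
      _ = k * (c * d * c⁻¹) * k⁻¹ := by rw [this]
      _ = k * c * d * (k * c)⁻¹ := by simp [mul_assoc])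
  have hκa : ∀ (a : A) (d : G), d ∈ D → (a : G) * d * (a : G)⁻¹ = (κ a : G) * d * (κ a : G)⁻¹ := by
    intro a d hd
    have h1 := congrArg (fun e : MulAut D => ((e ⟨d, hd⟩ : D) : G)) (hκ a)
    exact h1.symm
  have hker : κ.ker = B.subgroupOf A := by
    rw [hB, ← actHom_ker hAD]
    ext a
    rw [MonoidHom.mem_ker, MonoidHom.mem_ker, ← hκ a]
    constructor
    · intro h; rw [h, map_one]
    · intro h
      have h1 : κ a ∈ center D := by
        rw [mem_center_iff]
        intro g
        have h2 : κ a * g * (κ a)⁻¹ = g := by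
          have := congrArg (fun e : MulAut D => e g) h
          simpa using this
        have h3 := congrArg (· * κ a) h2
        simpa [mul_assoc] using h3.symm
      rwa [hz, mem_bot] at h1
  have hκsq : ∀ a : A, κ a * κ a = 1 := by
    intro a
    rw [← map_mul]
    have : a * a = 1 := Subtype.ext (hA a a.2)
    rw [this, map_one]
  -- the copy of D in N
  let N := centralizer (B : Set G)
  have hJ : Cfsg.Lie.IsoSuzuki ↥(D.subgroupOf N) :=
    Cfsg.Agent.ThreePrime.ACFacts.isoSuzuki_of_equiv (Subgroup.subgroupOfEquivOfLe hDN) hD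
  let ρ' := res ρ N (CS ρ B) CS_stable'
  have hρ' : ∀ y ∈ D.subgroupOf N, y ≠ 1 → ∃ v, ρ' y v ≠ v := by
    -- some element acts nontrivially
    have : Fact (Nat.Prime 5) := ⟨Nat.prime_five⟩
    obtain ⟨x, hx⟩ := exists_prime_orderOf_dvd_card' 5 (Cfsg.Agent.OddCyclic.T1SzComp.five_dvd hD)
    have hxo : orderOf (x : G) = 5 := by rw [Subgroup.orderOf_coe, hx]
    have hx1 : (x : G) ≠ 1 := by
      intro h
      rw [h, orderOf_one] at hxo
      norm_num at hxo
    obtain ⟨v, hv, hxv⟩ := axb (ρ := ρ) hV (isPGroup_of_sq (fun b hb => hA b (hBA hb)))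
      (y := (x : G)) (by rw [hxo]; decide)
      (fun b hb => mem_centralizer_iff.1 (hDN x.2) b hb) (by
        by_contra hcon
        push Not at hcon
        apply hx1
        apply hρ
        rw [map_one]
        ext v
        exact hcon v)
    intro y hy hy1
    have h1 := Cfsg.Agent.OddCyclic.FFSz.nontrivial_of hJ (ρ'.comp (D.subgroupOf N).subtype)
      ⟨⟨⟨x, hDN x.2⟩, x.2⟩, ⟨v, hv⟩, fun h2 => hxv (congrArg Subtype.val h2)⟩
      (y := ⟨y, hy⟩) (fun h => hy1 (congrArg Subtype.val h))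
    exact h1
  obtain ⟨f, hf3, -, -, hrank, hidx⟩ := Cfsg.Agent.OddCyclic.ClaimC.Sz.index_ge (X := N)
    (J := D.subgroupOf N) (V := ↥(CS ρ B)) (ρ := ρ') hJ (fun v => Subtype.ext (hV v)) hρ'
  -- the rank
  have hcard : B.relIndex A ≤ 2 ^ f := by
    rw [relIndex, ← hker, index_ker]
    have h1 := hrank ((κ.range).map (Subgroup.subgroupOfEquivOfLe hDN).symm.toMonoidHom) (by
      rintro _ ⟨_, ⟨a, rfl⟩, rfl⟩
      rw [← map_mul, hκsq, map_one])
    rwa [Subgroup.card_map_of_injective (MulEquiv.injective _)] at h1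
  -- an element outside B
  obtain ⟨a, ha, haB⟩ : ∃ a ∈ A, a ∉ B := by
    by_contra hcon
    push Not at hcon
    exact hBA' (le_antisymm hBA hcon)
  have hκa1 : κ ⟨a, ha⟩ ≠ 1 := by
    intro h
    have : (⟨a, ha⟩ : A) ∈ κ.ker := h
    rw [hker, mem_subgroupOf] at this
    exact haB this
  have h2 := hidx ⟨a, hAN ha⟩ ⟨⟨(κ ⟨a, ha⟩ : G), hDN (κ ⟨a, ha⟩).2⟩, (κ ⟨a, ha⟩).2⟩
    (by
      apply Subtype.ext
      apply Subtype.ext
      exact congrArg (fun z : D => (z : G)) (hκsq ⟨a, ha⟩))
    (fun h => hκa1 (Subtype.ext (congrArg (fun z => ((z : N) : G)) (congrArg Subtype.val h))))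
    (fun y hy => Subtype.ext (hκa ⟨a, ha⟩ y hy))
  rw [fx_res] at h2
  calc (B.relIndex A) ^ 2 ≤ (2 ^ f) ^ 2 := Nat.pow_le_pow_left hcard 2
    _ = 2 ^ (2 * f) := by rw [← pow_mul, mul_comm]
    _ ≤ _ := h2
    _ ≤ (CS ρ A).relIndex (CS ρ B) := by
      refine Subgroup.relIndex_le_of_le_left (L := CS ρ B) ?_ Subgroup.index_ne_zero_of_finite
      intro w hw
      exact hw a ha

end Cfsg.Agent.H210.Off
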