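import Cfsg.Agent.H210.Off.PslOuter
import Cfsg.Agent.H210.Off.Suz
import Cfsg.Agent.StdSz.ExoticFive
import Cfsg.Agent.SignalizersComponents.CompBasic

/-!
# `A` acting on a central extension of `PSL(2, 3^(2n+1))`: an odd order subgroup
-/

set_option autoImplicit false
open Cfsg

namespace Cfsg.Agent.H210.Off

open Subgroup
open Cfsg.Agent.SignalizersComponents.CompBasic

variable {G : Type*} [Group G]

theorem card_comap_of_surj {H K : Type*} [Group H] [Group K] [Finite H] (f : H →* K)
    (hf : Function.Surjective f) (L : Subgroup K) :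
    Nat.card (L.comap f) = Nat.card f.ker * Nat.card L := by
  have : Finite K := Finite.of_surjective f hf
  have h1 := (L.comap f).card_mul_index
  have h2 := L.card_mul_index
  have h3 := f.ker.card_mul_index
  rw [index_comap_of_surjective _ hf] at h1
  have h4 : f.ker.index = Nat.card K := by
    rw [index_ker, MonoidHom.range_eq_top.2 hf]
    exact Nat.card_congr Subgroup.topEquiv.toEquiv
  rw [h4, ← h2, ← h1] at h3
  have h5 : 0 < L.index := Nat.pos_of_ne_zero index_ne_zero_of_finite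
  exact Nat.eq_of_mul_eq_mul_right h5 (by rw [← h3]; ring)

/-- an automorphism-like element acting trivially modulo the centre of a perfect group acts trivially -/
theorem centralizes_of_mod_center {D : Subgroup G} (hperf : Group.IsPerfect D) {a : G}
    (ha : ∀ d ∈ D, a * d * a⁻¹ ∈ D)
    (h : ∀ (d : G) (hd : d ∈ D), (⟨a * d * a⁻¹, ha d hd⟩ : D) * (⟨d, hd⟩ : D)⁻¹ ∈ center D) :
    a ∈ centralizer (D : Set G) := by
  let f : D →* center D :=
    { toFun := fun d => ⟨_, h d d.2⟩
      map_one' := by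
        apply Subtype.ext
        apply Subtype.ext
        show a * 1 * a⁻¹ * (1 : G)⁻¹ = 1
        simp
      map_mul' := by
        intro d d'
        apply Subtype.ext
        have hc := mem_center_iff.1 (h d' d'.2)
        have hc1 := congrArg Subtype.val (hc d)
        apply Subtype.ext
        show a * ((d : G) * d') * a⁻¹ * ((d : G) * d')⁻¹ =
          (a * (d : G) * a⁻¹ * (d : G)⁻¹) * (a * (d' : G) * a⁻¹ * (d' : G)⁻¹)
        have hc2 : (d : G) * (a * (d' : G) * a⁻¹ * (d' : G)⁻¹) = (a * (d' : G) * a⁻¹ * (d' : G)⁻¹) * d := hc1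
        calc a * ((d : G) * d') * a⁻¹ * ((d : G) * d')⁻¹
            = (a * d * a⁻¹) * ((a * (d' : G) * a⁻¹ * (d' : G)⁻¹) * (d : G)⁻¹) := by simp [mul_assoc]
          _ = (a * d * a⁻¹) * ((d : G)⁻¹ * (d * (a * (d' : G) * a⁻¹ * (d' : G)⁻¹)) * (d : G)⁻¹) := by
              simp [mul_assoc]
          _ = (a * d * a⁻¹) * ((d : G)⁻¹ * ((a * (d' : G) * a⁻¹ * (d' : G)⁻¹) * d) * (d : G)⁻¹) := by
              rw [hc2]
          _ = _ := by simp [mul_assoc] }
  let _ : CommGroup (center D) :=
    { (inferInstance : Group (center D)) with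
      mul_comm := fun x y => Subtype.ext (mem_center_iff.1 y.2 x) }
  rw [mem_centralizer_iff]
  intro d hd
  have h1 : f ⟨d, hd⟩ = 1 := hom_eq_one_of_perfect hperf f _
  have h2 : a * d * a⁻¹ * d⁻¹ = 1 := congrArg (fun z : center D => ((z : D) : G)) h1
  have h3 : a * d * a⁻¹ = d := by
    have := congrArg (· * d) h2
    simpa using this
  have h4 := congrArg (· * a) h3
  simpa [mul_assoc] using h4.symm

theorem exists_odd_of_psl [Finite G] (h3 : NoInv3 G) {A D : Subgroup G} (hA : ∀ a ∈ A, a * a = 1)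
    (hAD : A ≤ normalizer (D : Set G)) (hne : ¬ A ≤ centralizer (D : Set G))
    (hperf : Group.IsPerfect D) (hodd : Odd (Nat.card (center D)))
    {F : Type*} [Field F] [Fintype F] {n : ℕ} (hn : 1 ≤ n) (hF : Fintype.card F = 3 ^ (2 * n + 1))
    (e : D ⧸ center D ≃* Matrix.ProjectiveSpecialLinearGroup (Fin 2) F) :
    ∃ R : Subgroup G, R ≤ D ∧ Odd (Nat.card R) ∧ A ≤ normalizer (R : Set G) ∧
      ¬ A ≤ centralizer (R : Set G) := by
  have hmod := three_pow_mod n
  have h2 : (2 : F) ≠ 0 := Cfsg.Agent.GH.L2Aut.two_ne_zero_of_odd (by rw [hF]; exact Odd.pow (by decide))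
  let R : Cfsg.Agent.GH.L2Aut.Rep F (D ⧸ center D) := Cfsg.Agent.GH.L2Aut.Rep.ofEquiv h2 e
  obtain ⟨φ, hφ⟩ := Cfsg.Agent.StdSz.ExoticFive.quot_exists (actHom hAD) (center D) (by
    intro γ w hw
    rw [mem_center_iff] at hw ⊢
    intro g
    obtain ⟨g', rfl⟩ := (actHom hAD γ).surjective g
    rw [← map_mul, ← map_mul, hw g'])
  have hφa : ∀ (a : A) (d : D), φ a (d : D ⧸ center D) = ((actHom hAD a d : D) : D ⧸ center D) := hφ
  have hφ2 : ∀ a : A, φ a * φ a = 1 := by
    intro a
    rw [← map_mul]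
    have : a * a = 1 := Subtype.ext (hA a a.2)
    rw [this, map_one]
  -- `φ` is nontrivial
  obtain ⟨a₀, ha₀⟩ : ∃ a : A, φ a ≠ 1 := by
    by_contra hcon
    push Not at hcon
    apply hne
    intro a ha
    have haD : ∀ d ∈ D, a * d * a⁻¹ ∈ D := fun d hd => (mem_normalizer_iff.1 (hAD ha) d).1 hd
    refine centralizes_of_mod_center hperf haD ?_
    intro d hd
    have h1 := hφa ⟨a, ha⟩ ⟨d, hd⟩
    rw [hcon, MulAut.one_apply, QuotientGroup.eq] at h1
    exact (inferInstance : (center D).Normal).mem_comm h1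
  -- all `φ a` are inner
  have hinn : ∀ a : A, φ a ∈ (MulAut.conj : (D ⧸ center D) →* MulAut (D ⧸ center D)).range := by
    intro a
    rcases inner_or_three R hF (hφ2 a) with h | ⟨x, hx, hax⟩
    · exact h
    · exfalso
      obtain ⟨r, rfl⟩ := QuotientGroup.mk_surjective x
      have h1 : ((r⁻¹ * actHom hAD a r : D) : D ⧸ center D) = (r : D ⧸ center D) := by
        have h5 : ((r⁻¹ * actHom hAD a r : D) : D ⧸ center D) =
            (r : D ⧸ center D)⁻¹ * ((actHom hAD a r : D) : D ⧸ center D) := rfl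
        rw [h5, ← hφa, hax]
        have h6 : (r : D ⧸ center D) ^ 3 = 1 := by rw [← hx]; exact pow_orderOf_eq_one _
        have h7 : (r : D ⧸ center D)⁻¹ * (r : D ⧸ center D)⁻¹ = (r : D ⧸ center D) := by
          rw [← _root_.mul_inv_rev, inv_eq_iff_mul_eq_one]
          rw [← h6]
          simp [pow_succ]
        exact h7
      have h4 : 3 ∣ orderOf (r⁻¹ * actHom hAD a r : D) := by
        have := orderOf_map_dvd (QuotientGroup.mk' (center D)) (r⁻¹ * actHom hAD a r : D)
        rw [QuotientGroup.mk'_apply, h1, hx] at this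
        exact this
      have h5 : ((r⁻¹ * actHom hAD a r : D) : G) = (r : G)⁻¹ * (a * r * (a : G)⁻¹) := rfl
      rw [← Subgroup.orderOf_coe, h5] at h4
      exact h3.not_dvd' (hA a a.2) h4
  obtain ⟨κ, hκ⟩ := exists_lift_conj R.center_eq_bot φ hinn
  have hκsq : ∀ a : A, κ a * κ a = 1 := by
    intro a
    rw [← map_mul]
    have : a * a = 1 := Subtype.ext (hA a a.2)
    rw [this, map_one]
  have hT1 : κ.range ≠ ⊥ := by
    intro h
    apply ha₀
    rw [← hκ]
    have : κ a₀ ∈ κ.range := ⟨a₀, rfl⟩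
    rw [h, mem_bot] at this
    rw [this, map_one]
  obtain ⟨r, y, hr, hr2, hy, hall, t, ht, hty⟩ := exists_torus R hn hF (T := κ.range)
    (by rintro _ ⟨a, rfl⟩; exact hκsq a) hT1
  have hry : Odd r := hr.odd_of_ne_two hr2
  refine ⟨((zpowers y).comap (QuotientGroup.mk' (center D))).map D.subtype, map_subtype_le _, ?_, ?_, ?_⟩
  · rw [Subgroup.card_map_of_injective D.subtype_injective,
      card_comap_of_surj _ (QuotientGroup.mk'_surjective _), QuotientGroup.ker_mk', Nat.card_zpowers, hy]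
    exact hodd.mul hry
  · have key : ∀ a ∈ A, ∀ d ∈ ((zpowers y).comap (QuotientGroup.mk' (center D))).map D.subtype,
        a * d * a⁻¹ ∈ ((zpowers y).comap (QuotientGroup.mk' (center D))).map D.subtype := by
      rintro a ha _ ⟨d, hd, rfl⟩
      refine ⟨actHom hAD ⟨a, ha⟩ d, ?_, rfl⟩
      have h1 : ((actHom hAD ⟨a, ha⟩ d : D) : D ⧸ center D) =
          κ ⟨a, ha⟩ * (d : D ⧸ center D) * (κ ⟨a, ha⟩)⁻¹ := by
        rw [← hφa, ← hκ, MulAut.conj_apply]
      show ((actHom hAD ⟨a, ha⟩ d : D) : D ⧸ center D) ∈ zpowers y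
      rw [h1]
      have h4 : (d : D ⧸ center D) ∈ zpowers y := hd
      obtain ⟨k, hk⟩ := h4
      have hk' : y ^ k = (d : D ⧸ center D) := hk
      rw [← hk', ← conj_zpow]
      rcases hall (κ ⟨a, ha⟩) ⟨_, rfl⟩ with h | h
      · rw [h]; exact zpow_mem (mem_zpowers y) k
      · rw [h]; exact zpow_mem (inv_mem (mem_zpowers y)) k
    intro a ha
    rw [mem_normalizer_iff]
    intro d
    constructor
    · exact key a ha d
    · intro h
      have := key a⁻¹ (inv_mem ha) _ h
      simpa [mul_assoc] using this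
  · intro hcen
    obtain ⟨a, rfl⟩ := ht
    obtain ⟨d, hd⟩ := QuotientGroup.mk_surjective y
    have h1 : (d : G) ∈ ((zpowers y).comap (QuotientGroup.mk' (center D))).map D.subtype :=
      ⟨d, by
        show (d : D ⧸ center D) ∈ zpowers y
        rw [hd]; exact mem_zpowers y, rfl⟩
    have h4 := mem_centralizer_iff.1 (hcen a.2) d h1
    have h5 : actHom hAD a d = d := by
      apply Subtype.ext
      rw [actHom_apply, ← h4]
      simp
    have h6 := hφa a d
    rw [h5, hd, ← hκ, MulAut.conj_apply, hty] at h6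
    -- y⁻¹ = y
    have h7 : y ^ 2 = 1 := by
      rw [sq]
      nth_rewrite 1 [← h6]
      exact inv_mul_cancel y
    have h8 := orderOf_dvd_of_pow_eq_one h7
    rw [hy] at h8
    exact hr2 ((Nat.prime_dvd_prime_iff_eq hr Nat.prime_two).1 h8)

end Cfsg.Agent.H210.Off
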